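import Groth.Prelude.Def_Lef
import Groth.Agent.LeffPicLib.Core
import Groth.Agent.LeffPicLib.Nhd
import Groth.Agent.PicAlgzLib.System
import Groth.Agent.CohCmpLib.UnitFibre
import Groth.Agent.FCohLib.AlgzPush
import Groth.Agent.ModifLib.Leray

/-!
# The Lefschetz condition for finitely presented modules from that for the structure sheaf
-/

set_option autoImplicit false
set_option linter.style.haveILetI false

universe u

open CategoryTheory CategoryTheory.Limits AlgebraicGeometry TopologicalSpace Opposite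

noncomputable section

namespace LefAlgzLib

variable {U : Scheme.{u}} {𝓙 : U.IdealSheafData}

/-- **Presented modules inherit the bijectivity from the structure sheaf.** -/
theorem homToFormalBijective_of_presentation (h : Lef.HomToFormalBijective 𝓙 (Coh.structureModule U))
    {D : U.Modules} {p q : ℕ} (r : (⨁ fun _ : Fin p => Coh.structureModule U) ⟶ ⨁ fun _ : Fin q => Coh.structureModule U)
    (π : (⨁ fun _ : Fin q => Coh.structureModule U) ⟶ D) [Epi π] (w : r ≫ π = 0)
    (hex : (ShortComplex.mk r π w).Exact) : Lef.HomToFormalBijective 𝓙 D := by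
  haveI : Epi (ShortComplex.mk r π w).g := by assumption
  refine ⟨fun φ ψ hφψ => ?_, fun y hy => ?_⟩
  · refine (cancel_epi π).1 (biproduct.hom_ext' _ _ fun i => h.1 _ _ fun n => ?_)
    simp only [Category.assoc]
    rw [hφψ n]
  · choose φ hφ using fun i : Fin q => h.2 (fun n => biproduct.ι (fun _ : Fin q => Coh.structureModule U) i ≫ π ≫ y n)
      fun n => by rw [Category.assoc, Category.assoc, hy n]
    have hΦ : ∀ n, biproduct.desc φ ≫ ClSub.toSubscheme (𝓙 ^ (n + 1)) = π ≫ y n := fun n =>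
      biproduct.hom_ext' _ _ fun i => by rw [biproduct.ι_desc_assoc]; exact hφ i n
    have hr : r ≫ biproduct.desc φ = 0 := by
      refine biproduct.hom_ext' _ _ fun j => (h.1 _ _ fun n => ?_).trans comp_zero.symm
      simp only [Category.assoc, hΦ, reassoc_of% w, zero_comp, comp_zero]
    refine ⟨hex.desc (biproduct.desc φ) hr, fun n => (cancel_epi π).1 ?_⟩
    rw [← Category.assoc]
    exact (congrArg (· ≫ _) (hex.g_desc (biproduct.desc φ) hr)).trans (hΦ n)

theorem toSubscheme_quotMap {I J : U.IdealSheafData} (h : I ≤ J) :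
    ClSub.toSubscheme I ≫ Lef.quotMap h = ClSub.toSubscheme J := by
  refine Eq.trans ?_ (LeffPicLib.unitToPush_congr (Scheme.IdealSheafData.inclusion_subschemeι h)).symm
  rw [LeffPicLib.unitToPush_comp, Category.assoc, Category.assoc]
  rfl

/-- A morphism out of the structure sheaf is given by its value at one. -/
theorem eq_unitHom {M : U.Modules} (f : Coh.structureModule U ⟶ M) :
    f = QCohLib.unitHom M (f.app ⊤ (1 : Γ(U, ⊤))) := by
  have h1 : QCohLib.unitHom (Coh.structureModule U) (1 : Γ(U, ⊤)) = 𝟙 _ := by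
    refine Scheme.Modules.hom_ext _ _ fun V => ConcreteCategory.hom_ext _ _ fun r => ?_
    refine (QCohLib.unitHom_app _ _ V r).trans ?_
    exact (congrArg (fun s : Γ(U, V) => (show Γ(U, V) from r) * s)
      (map_one (U.presheaf.map (homOfLE (le_top : V ≤ ⊤)).op).hom)).trans (mul_one _)
  conv_lhs => rw [← Category.id_comp f, ← h1, QCohLib.app_unitHom_app]

variable {A : Type u} [CommRing A] [U.Over (Spec (CommRingCat.of A))] (I : Ideal A)
  (h𝓙 : 𝓙 = (FSch.idealSpec A I).comap (U ↘ Spec (CommRingCat.of A)))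

include h𝓙 in
/-- The quotients by the powers of the ideal, in the two models. -/
theorem exists_modPow_iso (n : ℕ) [Coh.IsQCoh (Coh.structureModule U)] :
    ∃ α : Formal.modPow I (n + 1) (Coh.structureModule U) ≅ ClSub.quotMod (𝓙 ^ (n + 1)),
      Formal.modPowπ I (n + 1) (Coh.structureModule U) ≫ α.hom = ClSub.toSubscheme (𝓙 ^ (n + 1)) := by
  letI : ((𝓙 ^ (n + 1)).subscheme).Over (Spec (CommRingCat.of A)) :=
    ⟨(𝓙 ^ (n + 1)).subschemeι ≫ (U ↘ Spec (CommRingCat.of A))⟩
  obtain ⟨h, hi⟩ := PicAlgzLib.isIso_desc (𝓙 ^ (n + 1)).subschemeι rfl (I ^ (n + 1))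
    (fun b hb => FCohLib.toGlobal_zero' I 𝓙 h𝓙 n hb) (FCohLib.ker_le_rho' I 𝓙 h𝓙 n)
    (Coh.structureModule U) (KFlatLib.pullUnitIso (𝓙 ^ (n + 1)).subschemeι)
  refine ⟨@asIso _ _ _ _ _ hi, (cokernel.π_desc _ _ _).trans ?_⟩
  exact ((Scheme.Modules.pullbackPushforwardAdjunction _).homEquiv_unit _ _ _).symm.trans
    (((Scheme.Modules.pullbackPushforwardAdjunction _).homEquiv _ _).apply_symm_apply _)

include h𝓙 in
/-- **The structure sheaf: from the bijectivity on sections.** -/
theorem homToFormalBijective_structureModule [Coh.IsQCoh (Coh.structureModule U)]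
    (hb : Function.Bijective (Formal.toHHlim I (Coh.structureModule U) 0)) :
    Lef.HomToFormalBijective 𝓙 (Coh.structureModule U) := by
  choose α hα using exists_modPow_iso (U := U) I h𝓙
  let O := Coh.structureModule U
  let ev : ∀ {M : U.Modules}, (O ⟶ M) → Coh.HH U M 0 := fun {M} f =>
    (ModifLib.h0Sec M).symm (f.app ⊤ (1 : Γ(U, ⊤)))
  have hev : ∀ {M : U.Modules} (f g : O ⟶ M), ev f = ev g → f = g := fun {M} f g h => by
    rw [eq_unitHom f, eq_unitHom g, (ModifLib.h0Sec M).symm.injective h]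
  have hnat : ∀ {M N : U.Modules} (f : O ⟶ M) (g : M ⟶ N), ev (f ≫ g) = FormalLib.hMapA (A := A) g 0 (ev f) :=
    fun {M N} f g => by
      refine (ModifLib.h0Sec N).symm_apply_eq.2 ?_
      refine Eq.trans ?_ (ModifLib.h0Sec_map (A := A) g _).symm
      rw [AddEquiv.apply_symm_apply]
      rfl
  have hto : ∀ (f : O ⟶ O) (n : ℕ), (Formal.toHHlim I O 0 (ev f)).1 n =
      ev (f ≫ Formal.modPowπ I (n + 1) O) := fun f n => (hnat f _).symm
  refine ⟨fun φ ψ h => hev φ ψ (hb.1 (Subtype.ext (funext fun n => ?_))), fun y hy => ?_⟩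
  · rw [hto, hto]
    refine congrArg ev ((cancel_mono (α n).hom).1 ?_)
    rw [Category.assoc, Category.assoc, hα, h n]
  · have htr : ∀ n, Formal.modPowTrans I (n + 1) O ≫ (α n).hom =
        (α (n + 1)).hom ≫ Lef.quotMap (Lef.pow_succ_le 𝓙 n) := fun n => by
      rw [← cancel_epi (Formal.modPowπ I (n + 1 + 1) O), ← Category.assoc, Formal.modPowπ_trans, hα,
        ← Category.assoc, hα]
      exact (toSubscheme_quotMap _).symm
    let z : ∀ n, Formal.HHmodPow I O 0 n := fun n => ev (y n ≫ (α n).inv)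
    obtain ⟨x, hx⟩ := hb.2 ⟨z, fun n => (hnat (y (n + 1) ≫ (α (n + 1)).inv) _).symm.trans (congrArg ev (by
      rw [← cancel_mono (α n).hom, Category.assoc, Category.assoc, htr, Iso.inv_hom_id_assoc, hy n,
        Category.assoc, Iso.inv_hom_id, Category.comp_id]))⟩
    let φ : O ⟶ O := QCohLib.unitHom O (ModifLib.h0Sec O x)
    have hφ : ev φ = x := by
      refine (ModifLib.h0Sec O).symm_apply_eq.2 ?_
      exact Groth.Agent.LefConnLib.unitHom_app_one _ _
    refine ⟨φ, fun n => ?_⟩
    have h1 : φ ≫ Formal.modPowπ I (n + 1) O = y n ≫ (α n).inv := by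
      refine hev _ _ ?_
      rw [← hto, hφ, hx]
    rw [← hα n, ← Category.assoc, h1, Category.assoc, Iso.inv_hom_id, Category.comp_id]

end LefAlgzLib

end
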