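import Groth.Agent.LefAlgzLib.QuasiAffine
import Groth.Agent.LefFormalLib.Main
import Groth.Agent.Formal2AlgzLib.Stalk
import Groth.Agent.DepthLib.SkStalk
import Groth.Agent.DepthLib.RegAB
import Groth.Agent.CanExtLib.Pt
import Groth.Agent.LocSuppLib.LocFree
import Groth.Agent.DevissLib.ClosedImm
import Groth.Agent.S1575
import Groth.Agent.CurvLib.EulerTensor
import Groth.Prelude.Def_FEt
import Mathlib.RingTheory.Ideal.KrullsHeightTheorem

/-!
# Lef for the punctured spectrum along a regular element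
-/

set_option autoImplicit false
set_option linter.style.haveILetI false

universe u

open CategoryTheory CategoryTheory.Limits AlgebraicGeometry TopologicalSpace Opposite

noncomputable section

namespace LefAlgzLib

variable {A : Type u} [CommRing A] [IsLocalRing A]

theorem puncturedSpec_eq_puncturedOpen :
    FEt.puncturedSpec A = LocCoh.puncturedOpen A (IsLocalRing.maximalIdeal A) := by
  refine Opens.ext ?_
  ext p
  show p ≠ IsLocalRing.closedPoint A ↔ ¬ IsLocalRing.maximalIdeal A ≤ p.asIdeal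
  exact ⟨fun h hle => h (PrimeSpectrum.ext ((IsLocalRing.maximalIdeal.isMaximal A).eq_of_le p.isPrime.ne_top hle).symm),
    fun h e => h (e ▸ le_refl _)⟩

variable [IsNoetherianRing A]

/-- If no prime strictly below the closed point and above `p` contains `t`, then `dim A/p = 1`. -/
theorem ringKrullDim_quot_eq_one (p : PrimeSpectrum A) (hp : p ≠ IsLocalRing.closedPoint A) {t : A}
    (ht : t ∈ IsLocalRing.maximalIdeal A)
    (h : ∀ q : PrimeSpectrum A, p ≤ q → t ∈ q.asIdeal → q = IsLocalRing.closedPoint A) :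
    ringKrullDim (A ⧸ p.asIdeal) = 1 := by
  let π := Ideal.Quotient.mk p.asIdeal
  haveI : IsLocalRing (A ⧸ p.asIdeal) := IsLocalRing.of_surjective' π Ideal.Quotient.mk_surjective
  haveI : IsLocalHom π := IsLocalHom.of_surjective π Ideal.Quotient.mk_surjective
  have hmax : ∀ Q : Ideal (A ⧸ p.asIdeal), Q.IsPrime → π t ∈ Q → Q = IsLocalRing.maximalIdeal _ := by
    intro Q hQ htQ
    have e := h ⟨Q.comap π, Ideal.IsPrime.comap π⟩
      (fun a ha => by show π a ∈ Q; rw [Ideal.Quotient.eq_zero_iff_mem.2 ha]; exact Q.zero_mem) htQ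
    refine le_antisymm (IsLocalRing.le_maximalIdeal hQ.ne_top) fun z hz => ?_
    obtain ⟨a, rfl⟩ := Ideal.Quotient.mk_surjective z
    show a ∈ Q.comap π
    rw [show Q.comap π = IsLocalRing.maximalIdeal A from congrArg PrimeSpectrum.asIdeal e,
      IsLocalRing.mem_maximalIdeal]
    exact fun hu => hz (hu.map π)
  have htm : π t ∈ IsLocalRing.maximalIdeal (A ⧸ p.asIdeal) := fun hu => ht (isUnit_of_map_unit π t hu)
  have hmin : IsLocalRing.maximalIdeal (A ⧸ p.asIdeal) ∈ (Ideal.span {π t}).minimalPrimes :=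
    ⟨⟨(IsLocalRing.maximalIdeal.isMaximal _).isPrime, (Ideal.span_singleton_le_iff_mem _).2 htm⟩,
      fun Q hQ _ => (hmax Q hQ.1 (hQ.2 (Ideal.mem_span_singleton_self _))).ge⟩
  haveI : (Ideal.span {π t}).IsPrincipal := ⟨⟨π t, rfl⟩⟩
  refine le_antisymm ?_ ?_
  · rw [← IsLocalRing.maximalIdeal_height_eq_ringKrullDim]
    exact_mod_cast Ideal.height_le_one_of_isPrincipal_of_mem_minimalPrimes_of_isLocalRing _ hmin
  · refine (Order.one_le_krullDim_iff).2 ⟨⟨⊥, Ideal.isPrime_bot⟩, ⟨_, (IsLocalRing.maximalIdeal.isMaximal _).isPrime⟩,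
      lt_of_le_of_ne bot_le fun e => hp ?_⟩
    refine PrimeSpectrum.ext (le_antisymm (IsLocalRing.le_maximalIdeal p.isPrime.ne_top) fun a ha => ?_)
    rw [← Ideal.Quotient.eq_zero_iff_mem, ← Submodule.mem_bot (A ⧸ p.asIdeal),
      show (⊥ : Ideal (A ⧸ p.asIdeal)) = _ from congrArg PrimeSpectrum.asIdeal e]
    exact fun hu => ha (isUnit_of_map_unit π a hu)

theorem covBy_closedPoint_of_relCodim {p : PrimeSpectrum A}
    (hy : SGA2.relCodim (IsLocalRing.maximalIdeal A) p = 1) (q : PrimeSpectrum A) (hpq : p ≤ q) :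
    q = p ∨ q = IsLocalRing.closedPoint A := by
  by_contra hc
  push Not at hc
  have hqm : q ≤ IsLocalRing.closedPoint A := fun a ha => IsLocalRing.le_maximalIdeal q.isPrime.ne_top ha
  have h2 : (2 : ℕ∞) ≤ SGA2.relCodim (IsLocalRing.maximalIdeal A) p := by
    refine le_iInf fun q' => ?_
    have he : q'.1 = IsLocalRing.closedPoint A := PrimeSpectrum.ext
      ((IsLocalRing.maximalIdeal.isMaximal A).eq_of_le q'.1.isPrime.ne_top q'.2.2).symm
    have h1 : (⟨p, le_refl p⟩ : Set.Ici p) < ⟨q, hpq⟩ :=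
      lt_of_le_of_ne hpq fun e => hc.1 (congrArg Subtype.val e).symm
    have h2 : (⟨q, hpq⟩ : Set.Ici p) < ⟨q'.1, q'.2.1⟩ :=
      lt_of_le_of_ne (show q ≤ q'.1 by rw [he]; exact hqm) fun e => hc.2 ((congrArg Subtype.val e).trans he)
    calc (2 : ℕ∞) = 0 + 1 + 1 := by norm_num
      _ ≤ Order.height (⟨p, le_refl p⟩ : Set.Ici p) + 1 + 1 := by gcongr; exact bot_le
      _ ≤ Order.height (⟨q, hpq⟩ : Set.Ici p) + 1 := by gcongr; exact Order.height_add_one_le h1
      _ ≤ _ := Order.height_add_one_le h2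
  rw [hy] at h2
  exact absurd h2 (by norm_num)

/-- The local rings of the punctured spectrum. -/
theorem depth_stalk (V : (Spec (CommRingCat.of A)).Opens) (y : (V : Scheme.{u})) :
    LocCoh.depth ((V : Scheme.{u}).presheaf.stalk y) ((V : Scheme.{u}).presheaf.stalk y) =
      LocCoh.depth (Localization.AtPrime (V.ι y : PrimeSpectrum A).asIdeal)
        (Localization.AtPrime (V.ι y : PrimeSpectrum A).asIdeal) := by
  haveI := CanExtLib.isNoetherian_opens V
  let φ := Algz.toStalk A (V : Scheme.{u}) y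
  letI := φ.toAlgebra
  haveI := Formal2AlgzLib.isLocalization_of_isOpenImmersion V.ι y φ fun _ => rfl
  exact DepthLib.depth_congr_ringEquiv
    (IsLocalization.algEquiv (V.ι y : PrimeSpectrum A).asIdeal.primeCompl ((V : Scheme.{u}).presheaf.stalk y)
      (Localization.AtPrime (V.ι y : PrimeSpectrum A).asIdeal)).toRingEquiv

theorem mono_smulMod (V : (Spec (CommRingCat.of A)).Opens) {t : A} (hreg : IsSMulRegular A t) :
    Mono (Formal.smulMod A (Coh.structureModule (V : Scheme.{u})) t) := by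
  refine Formal2AlgzLib.mono_of_stalk _ fun y a ha => ?_
  have h : Algz.toStalk A (V : Scheme.{u}) y t • a = 0 :=
    (CanExtLib.stalkMapₗ_smulMod (Coh.structureModule (V : Scheme.{u})) y t a).symm.trans ha
  let φ := Algz.toStalk A (V : Scheme.{u}) y
  letI := φ.toAlgebra
  haveI := Formal2AlgzLib.isLocalization_of_isOpenImmersion V.ι y φ fun _ => rfl
  have hs : ∀ b : (V : Scheme.{u}).presheaf.stalk y, φ t * b = 0 → b = 0 := by
    intro b hb
    obtain ⟨⟨c, d⟩, hcd⟩ := IsLocalization.surj (V.ι y : PrimeSpectrum A).asIdeal.primeCompl b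
    have h1 : algebraMap A ((V : Scheme.{u}).presheaf.stalk y) (t * c) = 0 := by
      rw [map_mul, ← hcd, ← mul_assoc]
      exact (congrArg (· * _) hb).trans (zero_mul _)
    obtain ⟨e, he⟩ := (IsLocalization.map_eq_zero_iff (V.ι y : PrimeSpectrum A).asIdeal.primeCompl _ _).1 h1
    have h2 : (e : A) * c = 0 := hreg.right_eq_zero_of_smul (by rw [smul_eq_mul, ← he]; ring)
    have h3 : algebraMap A ((V : Scheme.{u}).presheaf.stalk y) c = 0 :=
      (IsLocalization.map_eq_zero_iff (V.ι y : PrimeSpectrum A).asIdeal.primeCompl _ _).2 ⟨e, h2⟩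
    exact (IsLocalization.map_units _ d).mul_left_eq_zero.1 (hcd.trans h3)
  let e := CurvLib.stalkStructureEquiv (X := (V : Scheme.{u})) y
  refine e.injective ?_
  rw [map_zero]
  refine hs _ ?_
  rw [← smul_eq_mul, ← e.map_smul, h, map_zero]

variable {R : Type u} [CommRing R] [IsRegularRing R]

/-- **Lef for the punctured spectrum.** -/
theorem lefCond_punctured (π : R →+* A) (hπ : Function.Surjective π) {t : A} (ht : t ∈ IsLocalRing.maximalIdeal A)
    (hreg : IsSMulRegular A t) [IsAdicComplete (Ideal.span ({t} : Set A)) A]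
    (hdepth : ∀ p : PrimeSpectrum A, ringKrullDim (A ⧸ p.asIdeal) = 1 →
      (2 : ℕ∞) ≤ LocCoh.depth (Localization.AtPrime p.asIdeal) (Localization.AtPrime p.asIdeal)) :
    Lef.LefCond (↑(FEt.puncturedSpec A) : Scheme.{u})
      ((Spec.map (CommRingCat.ofHom (Ideal.Quotient.mk (Ideal.span {t})))).ker.comap (FEt.puncturedSpec A).ι) := by
  let X : Scheme.{u} := ↑(FEt.puncturedSpec A)
  let j := (FEt.puncturedSpec A).ι
  let 𝓘 := (Spec.map (CommRingCat.ofHom (Ideal.Quotient.mk (Ideal.span ({t} : Set A))))).ker.comap j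
  haveI : IsNoetherian X := CanExtLib.isNoetherian_opens _
  haveI : Coh.IsQCoh (Coh.structureModule X) := (DevissLib.isCoh_structureModule _).1
  have hX : Lef.HomToFormalBijective 𝓘 (Coh.structureModule X) := by
    refine homToFormalBijective_structureModule (U := X) (Ideal.span ({t} : Set A)) rfl ?_
    refine (LefFormalLib.toHHlim_of_eq (IsLocalRing.maximalIdeal A) R π hπ puncturedSpec_eq_puncturedOpen
      (Coh.structureModule X) (DevissLib.isCoh_structureModule _) (mono_smulMod _ hreg) 1 (fun y hy => ?_) 0).1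
        Nat.zero_lt_one
    obtain ⟨a, ham, hay⟩ : ∃ a ∈ IsLocalRing.maximalIdeal A, a ∉ (j y : PrimeSpectrum A).asIdeal :=
      Set.not_subset.1 fun hle => y.2 (PrimeSpectrum.ext ((IsLocalRing.maximalIdeal.isMaximal A).eq_of_le
        (j y : PrimeSpectrum A).isPrime.ne_top hle).symm)
    refine le_of_le_of_eq (hdepth _ (ringKrullDim_quot_eq_one _ y.2 ham fun q hq htq => ?_))
      (((depth_stalk _ y).symm).trans (CommAlgDim.depth_congr (CurvLib.stalkStructureEquiv (X := X) y)).symm)
    rcases covBy_closedPoint_of_relCodim hy q hq with e | e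
    · exact absurd (e ▸ htq) hay
    · exact e
  intro U hU D hD
  haveI : CompactSpace (U : Scheme.{u}) :=
    isCompact_iff_compactSpace.1 (NoetherianSpace.isCompact (U : Set X))
  haveI : (U : Scheme.{u}).IsQuasiAffine := Scheme.IsQuasiAffine.of_isImmersion (U.ι ≫ j)
  refine homToFormalBijective_of_isQuasiAffine ?_ D (LocSuppLib.isCoh_of_isFinLocFree hD).1
  refine homToFormalBijective_open 𝓘 U hU hX ?_
  have hout : ∀ x : X, x ∉ U →
      (2 : ℕ∞) ≤ LocCoh.depth (X.presheaf.stalk x) ((Coh.structureModule X).presheaf.stalk x) := by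
    intro x hx
    refine le_of_le_of_eq (hdepth _ (ringKrullDim_quot_eq_one _ x.2 ht fun q hq htq => ?_))
      (((depth_stalk _ x).symm).trans (CommAlgDim.depth_congr (CurvLib.stalkStructureEquiv (X := X) x)).symm)
    by_contra hqm
    let w : X := ⟨q, hqm⟩
    have hxw : x ⤳ w := j.isOpenEmbedding.isInducing.specializes_iff.1 ((PrimeSpectrum.le_iff_specializes _ _).1 hq)
    refine hx (hxw.mem_open U.2 (hU ?_))
    rw [Scheme.IdealSheafData.support_comap]
    change j w ∈ ((Scheme.Hom.ker (Spec.map (CommRingCat.ofHom (Ideal.Quotient.mk (Ideal.span ({t} : Set A)))))).support :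
      Set ↥(Spec (CommRingCat.of A)))
    rw [Scheme.Hom.support_ker]
    exact subset_closure ⟨⟨q.asIdeal.map (Ideal.Quotient.mk (Ideal.span {t})),
      Ideal.map_isPrime_of_surjective Ideal.Quotient.mk_surjective
        (by rwa [Ideal.mk_ker, Ideal.span_singleton_le_iff_mem])⟩, PrimeSpectrum.ext (by
      show (q.asIdeal.map (Ideal.Quotient.mk (Ideal.span {t}))).comap (Ideal.Quotient.mk (Ideal.span {t})) = q.asIdeal
      rw [Ideal.comap_map_of_surjective _ Ideal.Quotient.mk_surjective, ← RingHom.ker_eq_comap_bot, Ideal.mk_ker,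
        sup_of_le_left ((Ideal.span_singleton_le_iff_mem _).2 htq)])⟩
  have hb := Groth.Agent.S1575.result X (Coh.structureModule X) (DevissLib.isCoh_structureModule _) U hout ⊤
  have key : ∀ (W : X.Opens) (hW : W ≤ ⊤), W = ⊤ ⊓ U → Function.Bijective (X.presheaf.map (homOfLE hW).op) := by
    rintro W hW rfl
    exact hb
  rw [Scheme.Opens.ι_appTop]
  exact key _ le_top (by rw [top_inf_eq]; exact U.ι_image_top)

end LefAlgzLib

end
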