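import Groth.Agent.LefFormalLib.DepthTwo
import Groth.Agent.PunctLefLib.GrDepth
import Mathlib.RingTheory.AdicCompletion.Basic

/-!
# Regular sequences along a normally flat ideal
-/

set_option autoImplicit false

universe u

open RingTheory.Sequence

noncomputable section

namespace LefAlgzLib

theorem isWeaklyRegular_subsingleton {A : Type u} [CommRing A] : ∀ (rs : List A) (M : Type u) [AddCommGroup M]
    [Module A M] [Subsingleton M], IsWeaklyRegular M rs
  | [], M, _, _, _ => IsWeaklyRegular.nil A M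
  | r :: rs, M, _, _, _ =>
    (isWeaklyRegular_cons_iff _ _ _).2 ⟨fun a b _ => Subsingleton.elim a b,
      haveI : Subsingleton (QuotSMulTop r M) := (Submodule.Quotient.mk_surjective _).subsingleton
      isWeaklyRegular_subsingleton rs _⟩

variable {A : Type u} [CommRing A] [IsNoetherianRing A]

omit [IsNoetherianRing A] in
theorem isNormallyFlat_of_flat_gr {J : Ideal A}
    (h : ∀ n : ℕ, Module.Flat (A ⧸ J) (↥(J ^ n) ⧸ (J • (⊤ : Submodule A ↥(J ^ n))))) :
    EGA4.IsNormallyFlat J A := by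
  have key : ∀ (N N' : Submodule A A), N = N' → Module.Flat (A ⧸ J) (↥N ⧸ (J • (⊤ : Submodule A ↥N))) →
      Module.Flat (A ⧸ J) (↥N' ⧸ (J • (⊤ : Submodule A ↥N'))) := by
    rintro N _ rfl hN
    exact hN
  exact fun n => key _ _ (by rw [smul_eq_mul, Ideal.mul_top]) (h n)

/-- A regular sequence on `A ⧸ J` stays one on the thickenings and on the ring. -/
theorem hasSeqIn_of_normallyFlat {J 𝔞 : Ideal A} [IsAdicComplete J A] (hnf : EGA4.IsNormallyFlat J A) {k : ℕ}
    (h : CommAlgDim.HasSeqIn 𝔞 (A ⧸ J) k) :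
    CommAlgDim.HasSeqIn 𝔞 A k ∧ ∀ n, CommAlgDim.HasSeqIn 𝔞 (FormalPunctLib.qn J A n) k := by
  obtain ⟨fs, hl, hfs, hreg⟩ := h
  have hgr : ∀ m, IsWeaklyRegular (↥(J ^ m) ⧸ (J • (⊤ : Submodule A ↥(J ^ m)))) fs := fun m =>
    haveI := hnf m
    haveI : Module.Flat (A ⧸ J) (↥(J ^ m) ⧸ (J • (⊤ : Submodule A ↥(J ^ m)))) := LefFormalLib.flat_gr J m
    Groth.Agent.S5182.weaklyRegular_gr J fs hreg m
  have hn : ∀ n, IsWeaklyRegular (FormalPunctLib.qn J A n) fs := fun n =>
    ((LefFormalLib.truncEquiv J n).isWeaklyRegular_congr fs).1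
      (Groth.Agent.S5182.weaklyRegular_trunc J fs hgr 0 n)
  refine ⟨⟨fs, hl, hfs, ?_⟩, fun n => ⟨fs, hl, hfs, hn n⟩⟩
  refine PunctLefLib.isWeaklyRegular_of_quot_pow J (IsAdicComplete.le_jacobson_bot J) fs A fun n => ?_
  cases n with
  | zero =>
    haveI : Subsingleton (A ⧸ (J ^ 0 • ⊤ : Submodule A A)) := Submodule.Quotient.subsingleton_iff.2
      (by rw [pow_zero, Ideal.one_eq_top, Submodule.top_smul])
    exact isWeaklyRegular_subsingleton fs _
  | succ n => exact hn n

end LefAlgzLib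

end
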