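import Groth.Agent.FCohLib.AlgzIso

/-!
# The two packagings of the completion of a module
-/

set_option autoImplicit false

universe u

open CategoryTheory AlgebraicGeometry

noncomputable section

namespace LefAlgzLib

variable {X : Scheme.{u}}

theorem completionMod_e (𝓘 : X.IdealSheafData) (M : X.Modules) (k : ℕ) :
    (FSch.completionMod 𝓘 M).e k = (Scheme.Modules.pullbackComp (Scheme.IdealSheafData.inclusion (FSch.pow_succ_le X 𝓘 k))
        (FSch.completionToX X 𝓘 (k + 1))).app M ≪≫
    (Scheme.Modules.pullbackCongr (Scheme.IdealSheafData.inclusion_subschemeι (FSch.pow_succ_le X 𝓘 k))).app M := by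
  delta FSch.completionMod
  dsimp only
  rfl

theorem app_trans {C D : Type*} [Category* C] [Category* D] {F G H : C ⥤ D} (α : F ≅ G) (β : G ≅ H) (M : C) :
    α.app M ≪≫ β.app M = (α ≪≫ β).app M := by
  ext
  simp

theorem complMod_e_iso (𝓘 : X.IdealSheafData) (M : X.Modules) (k : ℕ) :
    (FSch.complMod 𝓘 M).e k = (FSch.complTransIso 𝓘 k).app M := by
  delta FSch.complMod
  dsimp only

theorem completionMod_e_eq (𝓘 : X.IdealSheafData) (M : X.Modules) (k : ℕ) :
    (FSch.completionMod 𝓘 M).e k = (FSch.complMod 𝓘 M).e k := by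
  refine ((completionMod_e 𝓘 M k).trans ?_).trans (complMod_e_iso 𝓘 M k).symm
  delta FSch.complTransIso
  refine (app_trans _ _ M).trans ?_
  delta FSch.completionAlong FSch.completionToX
  dsimp only

/-- The two packagings of the completion of a module. -/
def completionModIso (𝓘 : X.IdealSheafData) (M : X.Modules) :
    FSch.completionMod 𝓘 M ≅ FSch.complMod 𝓘 M :=
  FCohLib.modSysIso (fun _ => Iso.refl _) fun k => by
    rw [completionMod_e_eq]
    refine Eq.trans ?_ (Category.comp_id _).symm
    refine Eq.trans ?_ (Category.id_comp _)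
    exact congrArg (fun f => f ≫ ((FSch.complMod 𝓘 M).e k).hom) ((Scheme.Modules.pullback _).map_id _)

end LefAlgzLib

end
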