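import Groth.Prelude.Def_LefX
import Groth.Agent.LefAlgzLib.Hom
import Groth.Agent.LefAlgzLib.Depth
import Groth.Agent.LefAlgzLib.Pack
import Groth.Agent.NFlatAlgzLib.Main
import Groth.Agent.PurityLiftLib.Free
import Groth.Agent.FCohLib.AlgzIso
import Groth.Agent.QCohLib.Coherent
import Groth.Agent.CurveSDLib.Main
import Groth.Agent.LocSuppLib.LocFree

/-!
# Lefschetz and algebraization on the complement of a closed set, along a normally flat ideal
-/

set_option autoImplicit false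
set_option linter.style.haveILetI false

universe u

open CategoryTheory CategoryTheory.Limits AlgebraicGeometry TopologicalSpace Opposite
open Formal2AlgzLib (PU S pr gS secL not_le_pr gS_smul gS_secL exists_smul_eq_gS isUnit_stalkHom)

noncomputable section

namespace LefAlgzLib

variable {A : Type u} [CommRing A] [IsNoetherianRing A] {J 𝔞 : Ideal A}

instance : IsLocallyNoetherian (PU 𝔞) := LocallyOfFiniteType.isLocallyNoetherian (LocCoh.puncturedOpen A 𝔞).ι

/-- Coherent modules on a punctured spectrum are quotients of free ones. -/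
theorem exists_epi (G : (PU 𝔞).Modules) (hG : Coh.IsCoh G) :
    ∃ (q : ℕ) (π : (⨁ fun _ : Fin q => Coh.structureModule (PU 𝔞)) ⟶ G), Epi π := by
  haveI : Coh.IsQCoh G := hG.1
  obtain ⟨fs, hfs⟩ := LocCohLib.exists_list_span 𝔞
  obtain ⟨M₀, hfg, htor⟩ := KoszLcLib.exists_finite_sections 𝔞 fs hfs G hG
  obtain ⟨q, m, hm⟩ := Submodule.fg_iff_exists_fin_generating_family.mp hfg
  refine ⟨q, biproduct.desc fun i => QCohLib.unitHom G (show Γ(G, ⊤) from m i), ?_⟩
  refine CohCmpLib.epi_of_stalk_surjective fun y c => ?_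
  let F := DerSch.stalkFunctor (PU 𝔞) y
  set π := biproduct.desc fun i => QCohLib.unitHom G (show Γ(G, ⊤) from m i)
  obtain ⟨g, -, hgy, s, hs⟩ := exists_smul_eq_gS G y c
  obtain ⟨k, hk⟩ := htor (Submodule.Quotient.mk s)
  obtain ⟨a, ha, hay⟩ := Set.not_subset.1 (not_le_pr y)
  have has : a ^ k • s ∈ M₀ := by
    have := hk _ (Ideal.pow_mem_pow ha k)
    rwa [← Submodule.Quotient.mk_smul, Submodule.Quotient.mk_eq_zero] at this
  rw [← hm] at has
  obtain ⟨b, hb⟩ := (Submodule.mem_span_range_iff_exists_fun A).1 has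
  have hgen : ∀ i, gS G y (m i) ∈ LinearMap.range (F.map π).hom := fun i => by
    have h : secL (biproduct.ι (fun _ : Fin q => Coh.structureModule (PU 𝔞)) i ≫ π)
        (show S (Coh.structureModule (PU 𝔞)) from (1 : Γ(PU 𝔞, ⊤))) = m i := by
      show (biproduct.ι (fun _ : Fin q => Coh.structureModule (PU 𝔞)) i ≫ π).app ⊤ (1 : Γ(PU 𝔞, ⊤)) = _
      rw [biproduct.ι_desc]
      exact Groth.Agent.LefConnLib.unitHom_app_one _ _
    rw [← h, gS_secL, F.map_comp]
    exact ⟨_, rfl⟩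
  have hu : IsUnit (Formal2VBLib.stalkHom A y (a ^ k * g)) :=
    isUnit_stalkHom fun h => ((pr y).isPrime.mem_or_mem h).elim
      (fun h' => hay ((pr y).isPrime.mem_of_pow_mem _ h')) hgy
  obtain ⟨v, hv⟩ := isUnit_iff_exists_inv.1 hu
  have hmem : Formal2VBLib.stalkHom A y (a ^ k * g) • c ∈ LinearMap.range (F.map π).hom := by
    rw [map_mul, mul_smul, ← hs, ← gS_smul, ← hb, map_sum]
    exact Submodule.sum_mem _ fun i _ => by
      rw [gS_smul]; exact Submodule.smul_mem _ _ (hgen i)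
  have := Submodule.smul_mem _ v hmem
  rw [smul_smul, mul_comm, hv, one_smul] at this
  exact this

theorem homToFormalBijective_of_isCoh {𝓙 : (PU 𝔞).IdealSheafData}
    (h : Lef.HomToFormalBijective 𝓙 (Coh.structureModule (PU 𝔞))) (D : (PU 𝔞).Modules) (hD : Coh.IsCoh D) :
    Lef.HomToFormalBijective 𝓙 D := by
  obtain ⟨q, π, hπ⟩ := exists_epi D hD
  have hF : Coh.IsCoh (⨁ fun _ : Fin q => Coh.structureModule (PU 𝔞)) :=
    CurveSDLib.isCoh_biproduct fun _ => DevissLib.isCoh_structureModule _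
  obtain ⟨p, ρ, hρ⟩ := exists_epi (kernel π) (QCohLib.isCoh_kernel π hF hD.1)
  refine homToFormalBijective_of_presentation h (ρ ≫ kernel.ι π) π
    (by rw [Category.assoc, kernel.condition, comp_zero]) ?_
  refine (ShortComplex.exact_iff_epi_kernel_lift _).2 ?_
  refine Eq.mpr (congrArg (fun f => Epi f) ((cancel_mono (kernel.ι π)).1 ?_)) hρ
  exact kernel.lift_ι _ _ _

/-- **Lef and algebraization on the complement of a closed set.** -/
theorem lef_and_algebraization [IsAdicComplete J A] (hnf : EGA4.IsNormallyFlat J A)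
    (h3 : CommAlgDim.HasSeqIn 𝔞 (A ⧸ J) 3)
    (V : (Spec (CommRingCat.of A)).Opens) (hV : V = LocCoh.puncturedOpen A 𝔞) :
    (∀ D : (V : Scheme.{u}).Modules, FlatMod.IsFinLocFree D →
      Lef.HomToFormalBijective ((Spec.map (CommRingCat.ofHom (Ideal.Quotient.mk J))).ker.comap V.ι) D) ∧
    (∀ 𝔐 : FSch.ModSys (FSch.completionAlong (V : Scheme.{u})
        ((Spec.map (CommRingCat.ofHom (Ideal.Quotient.mk J))).ker.comap V.ι)),
      LefX.LevelwiseFinLocFree 𝔐 → ∃ F : (V : Scheme.{u}).Modules, Coh.IsCoh F ∧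
        Nonempty (FSch.completionMod ((Spec.map (CommRingCat.ofHom (Ideal.Quotient.mk J))).ker.comap V.ι) F ≅ 𝔐)) := by
  subst hV
  haveI : Coh.IsQCoh (Coh.structureModule (PU 𝔞)) := (DevissLib.isCoh_structureModule _).1
  have h𝓙 : (Spec.map (CommRingCat.ofHom (Ideal.Quotient.mk J))).ker.comap (LocCoh.puncturedOpen A 𝔞).ι =
      (FSch.idealSpec A J).comap ((PU 𝔞) ↘ Spec (CommRingCat.of A)) := rfl
  refine ⟨fun D hD => ?_, fun 𝔐 h𝔐 => ?_⟩
  · refine homToFormalBijective_of_isCoh (homToFormalBijective_structureModule J h𝓙 ?_) D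
      (LocSuppLib.isCoh_of_isFinLocFree hD)
    have h2 : CommAlgDim.HasSeqIn 𝔞 (A ⧸ J) 2 := h3.mono (by omega)
    obtain ⟨hA, hn⟩ := hasSeqIn_of_normallyFlat hnf h2
    exact LefFormalLib.bijective_of_hasSeqIn J 𝔞 rfl hA hn
      (Formal2VBLib.isFinLocFree_structureModule _)
  · let 𝓘 := (Spec.map (CommRingCat.ofHom (Ideal.Quotient.mk J))).ker.comap (LocCoh.puncturedOpen A 𝔞).ι
    have hcoh : 𝔐.IsCoh := fun k => LocSuppLib.isCoh_of_isFinLocFree (h𝔐 k)
    have hfree : ∀ n, Formal2.IsFinLocFreeMod J (n + 1) ((FCohLib.gSys 𝓘 𝔐).obj (op n)) := fun n => by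
      letI := FCohLib.overLevel (A := A) 𝓘 n
      exact PurityLiftLib.isFinLocFreeMod_push (A := A) (FSch.completionToX (PU 𝔞) 𝓘 n) rfl J (n + 1)
        (fun b hb => FCohLib.toGlobal_zero' J 𝓘 h𝓙 n hb) (FCohLib.ker_le_rho' J 𝓘 h𝓙 n) (h𝔐 n)
    have hH : ∀ i ≤ 2, Module.Finite A (LocCoh.H 𝔞 i (A ⧸ J)) := fun i hi => by
      have := (LocCohLib.hasSeqIn_iff_subsingleton_H 3 (A ⧸ J)).1 h3 i (by omega)
      infer_instance
    obtain ⟨F, hF, ⟨γ⟩⟩ := NFlatAlgzLib.exists_completion_iso hnf hH _ rfl (FCohLib.gSys 𝓘 𝔐)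
      (FCohLib.isCohFormal_gSys J 𝓘 h𝓙 𝔐 hcoh) hfree
    haveI : Coh.IsQCoh F := hF.1
    obtain ⟨e⟩ := FCohLib.nonempty_iso_complMod J 𝓘 h𝓙 𝔐 γ
    exact ⟨F, hF, ⟨completionModIso 𝓘 F ≪≫ e⟩⟩

end LefAlgzLib

end
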