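import Groth.Agent.LefAlgzLib.Hom
import Groth.Agent.LeffPicLib.Nhd
import Groth.Agent.QCohLib.QCoh
import Groth.Agent.S4407

/-!
# The Lefschetz condition on quasi-affine schemes and its passage to open neighbourhoods
-/

set_option autoImplicit false
set_option linter.style.haveILetI false

universe u

open CategoryTheory CategoryTheory.Limits AlgebraicGeometry TopologicalSpace Opposite

noncomputable section

namespace LefAlgzLib

variable {U : Scheme.{u}} {𝓙 : U.IdealSheafData}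

/-- The free module, typed as a module on the scheme. -/
def fr (ι : Type u) : U.Modules := SheafOfModules.free ι

/-- The basis of the free module. -/
def fI {ι : Type u} (i : ι) : Coh.structureModule U ⟶ fr (U := U) ι := SheafOfModules.ιFree i

theorem fr_hom_ext {M : U.Modules} {ι : Type u} (f g : fr (U := U) ι ⟶ M)
    (h : ∀ i : ι, fI i ≫ f = fI i ≫ g) : f = g :=
  M.freeHomEquiv.injective (funext fun i => M.unitHomEquiv.symm.injective
    ((SheafOfModules.unitHomEquiv_symm_freeHomEquiv_apply (M := M) f i).trans ((h i).trans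
      (SheafOfModules.unitHomEquiv_symm_freeHomEquiv_apply (M := M) g i).symm)))

theorem exists_fr_hom {M : U.Modules} {ι : Type u} (φ : ι → (Coh.structureModule U ⟶ M)) :
    ∃ Φ : fr (U := U) ι ⟶ M, ∀ i, fI i ≫ Φ = φ i :=
  ⟨M.freeHomEquiv.symm fun i => M.unitHomEquiv (φ i), fun i =>
    (SheafOfModules.unitHomEquiv_symm_freeHomEquiv_apply (M := M) _ i).symm.trans (by
      rw [Equiv.apply_symm_apply]
      exact M.unitHomEquiv.symm_apply_apply _)⟩

theorem exists_fr_epi [U.IsQuasiAffine] (D : U.Modules) (hD : Coh.IsQCoh D) :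
    ∃ (ι : Type u) (π : fr (U := U) ι ⟶ D), Epi π :=
  Groth.Agent.S4407.result U D hD

/-- **On a quasi-affine scheme the structure sheaf decides.** -/
theorem homToFormalBijective_of_isQuasiAffine [U.IsQuasiAffine]
    (h : Lef.HomToFormalBijective 𝓙 (Coh.structureModule U)) (D : U.Modules) (hD : Coh.IsQCoh D) :
    Lef.HomToFormalBijective 𝓙 D := by
  obtain ⟨ι, π, hπ⟩ := exists_fr_epi D hD
  haveI : Coh.IsQCoh D := hD
  haveI : Coh.IsQCoh (fr (U := U) ι) := inferInstanceAs (Coh.IsQCoh (SheafOfModules.free ι : U.Modules))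
  obtain ⟨κ, ρ, hρ⟩ := exists_fr_epi (kernel π) (QCohLib.isQCoh_kernel π)
  have hfree : ∀ (ι : Type u) (φ ψ : fr (U := U) ι ⟶ Coh.structureModule U),
      (∀ n, φ ≫ ClSub.toSubscheme (𝓙 ^ (n + 1)) = ψ ≫ ClSub.toSubscheme (𝓙 ^ (n + 1))) → φ = ψ :=
    fun ι φ ψ hh => fr_hom_ext φ ψ fun i => h.1 _ _ fun n => by rw [Category.assoc, Category.assoc, hh n]
  refine ⟨fun φ ψ hφψ => (cancel_epi π).1 (hfree ι _ _ fun n => by rw [Category.assoc, Category.assoc, hφψ n]),
    fun y hy => ?_⟩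
  choose φ hφ using fun i : ι => h.2 (fun n => fI i ≫ π ≫ y n)
    fun n => by rw [Category.assoc, Category.assoc, hy n]
  obtain ⟨Φ, hΦi⟩ := exists_fr_hom φ
  have hΦ : ∀ n, Φ ≫ ClSub.toSubscheme (𝓙 ^ (n + 1)) = π ≫ y n := fun n =>
    fr_hom_ext _ _ fun i => by rw [← Category.assoc, hΦi, hφ]
  have hker : kernel.ι π ≫ Φ = 0 := by
    rw [← cancel_epi ρ, comp_zero]
    refine hfree κ _ _ fun n => ?_
    rw [Category.assoc, Category.assoc, hΦ, kernel.condition_assoc, zero_comp, zero_comp, comp_zero]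
  refine ⟨Abelian.epiDesc π Φ hker, fun n => (cancel_epi π).1 ?_⟩
  rw [← Category.assoc, Abelian.comp_epiDesc, hΦ]

variable {X : Scheme.{u}} (𝓘 : X.IdealSheafData) (V : X.Opens) (hV : (𝓘.support : Set X) ⊆ (V : Set X))

include hV in
/-- **Passing to an open neighbourhood with the same functions.** -/
theorem homToFormalBijective_open (h : Lef.HomToFormalBijective 𝓘 (Coh.structureModule X))
    (hres : Function.Bijective V.ι.appTop) :
    Lef.HomToFormalBijective (𝓘.comap V.ι) (Coh.structureModule (V : Scheme.{u})) := by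
  let γ : ∀ n, ((𝓘.comap V.ι) ^ (n + 1)).subscheme ⟶ (𝓘 ^ (n + 1)).subscheme := LeffPicLib.fromNhd 𝓘 V
  have hb : ∀ n, Function.Bijective (γ n).appTop := fun n => by
    haveI : IsIso (γ n) := LeffPicLib.isIso_fromNhd 𝓘 V hV n
    haveI : IsIso (γ n).appTop := inferInstanceAs (IsIso ((γ n).app ⊤))
    exact ConcreteCategory.bijective_of_isIso (γ n).appTop
  have hsq : ∀ n (a : Γ(X, ⊤)), (γ n).appTop ((𝓘 ^ (n + 1)).subschemeι.appTop a) =
      ((𝓘.comap V.ι) ^ (n + 1)).subschemeι.appTop (V.ι.appTop a) := fun n a => by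
    have e := congrArg Scheme.Hom.appTop (LeffPicLib.fromNhd_ι 𝓘 V n)
    rw [Scheme.Hom.comp_appTop, Scheme.Hom.comp_appTop] at e
    exact congr($e a)
  have htr : ∀ n (a : Γ((𝓘 ^ (n + 1 + 1)).subscheme, ⊤)),
      (LeffPicLib.trans (𝓘.comap V.ι) n).appTop ((γ (n + 1)).appTop a) =
        (γ n).appTop ((LeffPicLib.trans 𝓘 n).appTop a) := fun n a => by
    have e := congrArg Scheme.Hom.appTop (LeffPicLib.trans_fromNhd 𝓘 V n)
    rw [Scheme.Hom.comp_appTop, Scheme.Hom.comp_appTop] at e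
    exact congr($e a)
  refine ⟨fun φ ψ hφψ => ?_, fun y hy => ?_⟩
  · rw [eq_unitHom φ, eq_unitHom ψ] at hφψ ⊢
    obtain ⟨a, ha⟩ := hres.2 (φ.app ⊤ (1 : Γ((V : Scheme.{u}), ⊤)))
    obtain ⟨b, hb'⟩ := hres.2 (ψ.app ⊤ (1 : Γ((V : Scheme.{u}), ⊤)))
    have key : QCohLib.unitHom (Coh.structureModule X) a = QCohLib.unitHom (Coh.structureModule X) b := by
      refine h.1 _ _ fun n => ?_
      rw [Groth.Agent.LefConnLib.comp_toSubscheme_eq, Groth.Agent.LefConnLib.comp_toSubscheme_eq]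
      refine congrArg _ ((hb n).1 ?_)
      rw [hsq, hsq, ha, hb']
      have e := congrArg (fun f => f.app ⊤ (1 : Γ((V : Scheme.{u}), ⊤))) (hφψ n)
      rw [Groth.Agent.LefConnLib.comp_toSubscheme_eq, Groth.Agent.LefConnLib.comp_toSubscheme_eq] at e
      exact (Groth.Agent.LefConnLib.unitHom_app_one _ _).symm.trans
        (e.trans (Groth.Agent.LefConnLib.unitHom_app_one _ _))
    have e : a = b := (Groth.Agent.LefConnLib.unitHom_app_one _ _).symm.trans
      ((congrArg (fun f => f.app ⊤ (1 : Γ(X, ⊤))) key).trans (Groth.Agent.LefConnLib.unitHom_app_one _ _))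
    exact congrArg _ (ha.symm.trans ((congrArg _ e).trans hb'))
  · let z : ∀ n, Γ(((𝓘.comap V.ι) ^ (n + 1)).subscheme, ⊤) := fun n => (y n).app ⊤ (1 : Γ((V : Scheme.{u}), ⊤))
    choose w hw using fun n => (hb n).2 (z n)
    have hz : ∀ n, (LeffPicLib.trans (𝓘.comap V.ι) n).appTop (z (n + 1)) = z n := fun n =>
      (Groth.Agent.LefConnLib.quotMap_app_top _ _).symm.trans
        (congrArg (fun f => f.app ⊤ (1 : Γ((V : Scheme.{u}), ⊤))) (hy n))
    obtain ⟨φ, hφ⟩ := h.2 (fun n => QCohLib.unitHom (ClSub.quotMod (𝓘 ^ (n + 1))) (w n)) fun n =>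
      (QCohLib.app_unitHom_app _ _).trans (congrArg (QCohLib.unitHom _)
        ((Groth.Agent.LefConnLib.quotMap_app_top _ _).trans ((hb n).1 (by
          refine (htr n (w (n + 1))).symm.trans ?_
          rw [hw, hz, hw]))))
    let g : Γ(X, ⊤) := φ.app ⊤ (1 : Γ(X, ⊤))
    refine ⟨QCohLib.unitHom (Coh.structureModule (V : Scheme.{u})) (V.ι.appTop g), fun n => ?_⟩
    rw [Groth.Agent.LefConnLib.comp_toSubscheme_eq, eq_unitHom (y n)]
    refine congrArg _ ((hsq n g).symm.trans ?_)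
    have e : (𝓘 ^ (n + 1)).subschemeι.appTop g = w n :=
      (congrArg (fun f => f.app ⊤ (1 : Γ(X, ⊤))) (hφ n)).trans (Groth.Agent.LefConnLib.unitHom_app_one _ _)
    rw [e, hw]

end LefAlgzLib

end
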